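import Cfsg.Agent.Lib.HallGen.DivisionRing.Icosian
import Mathlib.RingTheory.LittleWedderburn
import Mathlib.LinearAlgebra.FiniteDimensional.Basic
import Cfsg.Agent.S3359
import Cfsg.Agent.S4293

/-!
# Non-soluble finite subgroups of division rings

Amitsur's theorem: such a group is `SL(2,5)`.
-/

set_option autoImplicit false

namespace CfsgLib.HallGen.DivRing

open scoped MatrixGroups

variable {D : Type*} [DivisionRing D]

theorem charZero_of_not_solvable (H : Subgroup Dˣ) [Finite H] (hH : ¬ Group.IsSolvable H) : CharZero D := by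
  classical
  obtain ⟨p, hp⟩ := CharP.exists D
  rcases Nat.eq_zero_or_pos p with rfl | hp0
  · exact CharP.charP_to_charZero D
  exfalso
  haveI : Fact p.Prime := ⟨(CharP.char_is_prime_or_zero D p).resolve_right hp0.ne'⟩
  letI := ZMod.algebra D p
  set s : Set D := Set.range fun h : H => ((h : Dˣ) : D) with hs
  have hclosed : (Submonoid.closure s : Set D) = s := by
    refine Set.Subset.antisymm (fun x hx => ?_) Submonoid.subset_closure
    induction hx using Submonoid.closure_induction with
    | mem x hx => exact hx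
    | one => exact ⟨1, by simp⟩
    | mul x y _ _ hx hy =>
      obtain ⟨a, rfl⟩ := hx
      obtain ⟨b, rfl⟩ := hy
      exact ⟨a * b, by simp⟩
  set A := Algebra.adjoin (ZMod p) s with hA
  have hfd : Module.Finite (ZMod p) A := by
    have e : Subalgebra.toSubmodule A = Submodule.span (ZMod p) s := by
      rw [hA, Algebra.adjoin_eq_span, hclosed]
    haveI : Module.Finite (ZMod p) (Submodule.span (ZMod p) s) :=
      Module.Finite.span_of_finite _ (Set.finite_range _)
    exact Module.Finite.equiv (LinearEquiv.ofEq _ _ e.symm)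
  haveI : Finite A := Module.finite_of_finite (ZMod p)
  have hfield : IsField A := Finite.isDomain_to_isField A
  refine hH (Group.isSolvable_of_comm fun a b => Subtype.ext (Units.ext ?_))
  have := congrArg Subtype.val (hfield.mul_comm
    ⟨((a : Dˣ) : D), Algebra.subset_adjoin ⟨a, rfl⟩⟩ ⟨((b : Dˣ) : D), Algebra.subset_adjoin ⟨b, rfl⟩⟩)
  simpa using this

/-- Amitsur: a non-soluble finite subgroup of a division ring is `SL(2,5)`. -/
theorem nonempty_mulEquiv (H : Subgroup Dˣ) [Finite H] (hH : ¬ Group.IsSolvable H) :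
    Nonempty (H ≃* SL(2, ZMod 5)) := by
  haveI := charZero_of_not_solvable H hH
  have hbot : H ≠ ⊥ := fun h => hH (Group.isSolvable_of_comm fun a b => by
    subst h
    exact Subsingleton.elim _ _)
  obtain ⟨G₀, hG₀, -, S, M, hsup, -, hcomm, ⟨e⟩, -, hcop⟩ :=
    Cfsg.Agent.S3359.result hH (Cfsg.Agent.S4293.result H hbot)
  let emb : H →* D := (Units.coeHom D).comp H.subtype
  have hemb : Function.Injective emb := Units.val_injective.comp Subtype.val_injective
  let ι : BI →* D := emb.comp (S.subtype.comp e.symm.toMonoidHom)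
  have hι : Function.Injective ι := hemb.comp (Subtype.val_injective.comp e.symm.injective)
  have hcard : Nat.card BI = 120 := by
    rw [Nat.card_eq_fintype_card]
    decide +kernel
  have hS : ∀ x ∈ G₀, x ^ 120 = 1 → x ∈ S := by
    intro x hx hx120
    have hSM : S ≤ Subgroup.normalizer (M : Set H) := fun s hs => Subgroup.mem_normalizer_iff.2 fun y =>
      ⟨fun hy => by rwa [hcomm s hs y hy, mul_inv_cancel_right],
        fun hy => by
          have h1 := hcomm s hs _ hy
          have : y = s * y * s⁻¹ := mul_left_cancel (a := s) (by rw [h1, inv_mul_cancel_right])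
          rw [this]; exact hy⟩
    rw [← hsup, ← SetLike.mem_coe, Subgroup.coe_mul_of_left_le_normalizer_right _ _ hSM] at hx
    obtain ⟨s, hs, m, hm, rfl⟩ := hx
    have hs120 : s ^ 120 = 1 := by
      have : (⟨s, hs⟩ : S) ^ 120 = 1 := e.injective (by rw [map_pow, map_one, ← hcard, pow_card_eq_one'])
      simpa using congrArg Subtype.val this
    have hm120 : m ^ 120 = 1 := by
      rwa [Commute.mul_pow (hcomm s hs m hm), hs120, one_mul] at hx120
    have h1 : orderOf m = 1 := Nat.eq_one_of_dvd_coprimes
      ((Nat.Coprime.pow_right 3 hcop).coprime_dvd_right (by norm_num : 120 ∣ 30 ^ 3))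
      ((Subgroup.orderOf_coe (⟨m, hm⟩ : M)) ▸ orderOf_dvd_natCard (⟨m, hm⟩ : M))
      (orderOf_dvd_of_pow_eq_one hm120)
    rw [orderOf_eq_one_iff] at h1
    show s * m ∈ S
    rw [h1, mul_one]
    exact hs
  have hsurj : Function.Surjective (S.subtype.comp e.symm.toMonoidHom) := by
    intro h
    obtain ⟨g, hg⟩ := mem_range_of_normalizing ι hι (h := emb h) (Units.ne_zero _)
      (N := Nat.card H) Nat.card_pos
      (fun g => by
        show (emb _ * emb h) ^ Nat.card H = 1
        rw [← map_mul, ← map_pow, pow_card_eq_one', map_one])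
      (fun g => by
        have hmem : ((e.symm g : S) : H) ∈ G₀ := hsup ▸ Subgroup.mem_sup_left (e.symm g).2
        have hc : h * (e.symm g : H) * h⁻¹ ∈ S := by
          refine hS _ (hG₀.conj_mem _ hmem h) ?_
          rw [conj_pow, ← Subgroup.coe_pow, ← map_pow, ← hcard, pow_card_eq_one', map_one,
            OneMemClass.coe_one, mul_one, mul_inv_cancel]
        refine ⟨e ⟨_, hc⟩, ?_⟩
        show emb h * emb _ = emb ((e.symm (e ⟨_, hc⟩) : S) : H) * emb h
        rw [e.symm_apply_apply, ← map_mul, ← map_mul, inv_mul_cancel_right]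
        rfl)
    exact ⟨g, hemb hg.symm⟩
  exact ⟨(MulEquiv.ofBijective (S.subtype.comp e.symm.toMonoidHom)
    ⟨Subtype.val_injective.comp e.symm.injective, hsurj⟩).symm⟩

end CfsgLib.HallGen.DivRing
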