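import Mathlib.NumberTheory.LSeries.PrimesInAP
import Mathlib.NumberTheory.LegendreSymbol.QuadraticReciprocity
import Mathlib.Tactic.LinearCombination

/-!
# An auxiliary prime `m ≡ 3 (mod 20)` with `2m = s² + 5r²` and `(m/n) = -1`
-/

set_option autoImplicit false

namespace CfsgLib.HallGen.DivRing

theorem not_isSquare_three : ¬ IsSquare ((((3 : ℤ)) : ZMod 5)) := by decide +kernel

theorem exists_two_mul_eq {m : ℕ} [Fact m.Prime] (hm : m % 20 = 3) :
    ∃ s r : ℤ, s ^ 2 + 5 * r ^ 2 = 2 * m := by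
  classical
  have hp : m.Prime := Fact.out
  -- a square root of `-5`
  obtain ⟨x, hx⟩ : IsSquare (-5 : ZMod m) := by
    haveI : Fact (Nat.Prime 5) := ⟨Nat.prime_five⟩
    have h5 : legendreSym m 5 = -1 := by
      have h := legendreSym.quadratic_reciprocity_one_mod_four (p := 5) (q := m) (by norm_num) (by omega)
      rw [show ((5 : ℕ) : ℤ) = 5 from rfl] at h
      rw [h, legendreSym.mod 5 (m : ℤ), show (m : ℤ) % ((5 : ℕ) : ℤ) = 3 by push_cast; omega]
      rw [legendreSym.eq_neg_one_iff]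
      exact not_isSquare_three
    have h : legendreSym m (-5) = 1 := by
      rw [show (-5 : ℤ) = -1 * 5 by norm_num, legendreSym.mul, h5, legendreSym.at_neg_one (by omega),
        ZMod.χ₄_nat_three_mod_four (by omega)]
      norm_num
    have hne : ((-5 : ℤ) : ZMod m) ≠ 0 := fun h0 => by
      rw [(legendreSym.eq_zero_iff m (-5)).2 h0] at h
      norm_num at h
    simpa using (legendreSym.eq_one_iff m hne).1 h
  -- pigeonhole
  set k := Nat.sqrt m with hk
  obtain ⟨p, q, hpq, heq⟩ := Fintype.exists_ne_map_eq_of_card_lt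
    (fun z : Fin (k + 1) × Fin (k + 1) => ((z.1 : ℕ) : ZMod m) - x * ((z.2 : ℕ) : ZMod m))
    (by rw [Fintype.card_prod, Fintype.card_fin, ZMod.card]; exact Nat.lt_succ_sqrt m)
  have hksq : k * k < m := lt_of_le_of_ne (Nat.sqrt_le m) fun h => hp.not_isSquare ⟨k, h.symm⟩
  set s : ℤ := (p.1 : ℕ) - ((q.1 : ℕ) : ℤ) with hs
  set r : ℤ := (p.2 : ℕ) - ((q.2 : ℕ) : ℤ) with hr
  have hsr : s ≠ 0 ∨ r ≠ 0 := by
    by_contra h
    rw [not_or, not_not, not_not] at h
    exact hpq (Prod.ext (Fin.ext (by omega)) (Fin.ext (by omega)))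
  have hsk : s ^ 2 ≤ (k : ℤ) * k ∧ r ^ 2 ≤ (k : ℤ) * k := by
    constructor <;> nlinarith [p.1.isLt, q.1.isLt, p.2.isLt, q.2.isLt]
  have hdvd : (m : ℤ) ∣ s ^ 2 + 5 * r ^ 2 := by
    rw [← ZMod.intCast_zmod_eq_zero_iff_dvd]
    have e : (s : ZMod m) = x * (r : ZMod m) := by
      simp only [hs, hr]
      push_cast
      linear_combination heq
    push_cast
    rw [e]
    linear_combination -(r : ZMod m) ^ 2 * hx
  obtain ⟨c, hc⟩ := hdvd
  have hksq' : (k : ℤ) * k < m := by exact_mod_cast hksq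
  have hc6 : c < 6 := by
    by_contra h
    nlinarith
  have hc0 : 0 < c := by
    have hpos : 0 < s ^ 2 + 5 * r ^ 2 := by
      rcases hsr with h | h <;> nlinarith [mul_self_pos.2 h, sq_nonneg s, sq_nonneg r]
    rw [hc] at hpos
    have hm0 : (0 : ℤ) ≤ m := by positivity
    by_contra h
    nlinarith
  have sq5 : ∀ u v : ℤ, u ^ 2 + 5 * v ^ 2 ≠ m := by
    intro u v h
    have h5 : u ^ 2 % 5 = 3 := by omega
    have hu : u % 5 = 0 ∨ u % 5 = 1 ∨ u % 5 = 2 ∨ u % 5 = 3 ∨ u % 5 = 4 := by omega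
    rw [pow_two, Int.mul_emod] at h5
    rcases hu with e | e | e | e | e <;> rw [e] at h5 <;> norm_num at h5
  interval_cases c
  · exact absurd (by simpa using hc) (sq5 s r)
  · exact ⟨s, r, by linear_combination hc⟩
  · -- `c = 3`
    have hmod : s % 3 = r % 3 ∨ s % 3 = (-r) % 3 := by
      have h : (s ^ 2 + 5 * r ^ 2) % 3 = 0 := by rw [hc]; omega
      rw [Int.add_emod, Int.mul_emod, pow_two, pow_two, Int.mul_emod s, Int.mul_emod r] at h
      have h1 : s % 3 = 0 ∨ s % 3 = 1 ∨ s % 3 = 2 := by omega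
      have h2 : r % 3 = 0 ∨ r % 3 = 1 ∨ r % 3 = 2 := by omega
      rcases h1 with e1 | e1 | e1 <;> rcases h2 with e2 | e2 | e2 <;> rw [e1, e2] at h <;> norm_num at h <;> omega
    rcases hmod with h | h
    · obtain ⟨S, hS⟩ : (3 : ℤ) ∣ s + 5 * r := by omega
      obtain ⟨T, hT⟩ : (3 : ℤ) ∣ s - r := by omega
      refine ⟨S, T, ?_⟩
      have : 9 * (S ^ 2 + 5 * T ^ 2) = 9 * (2 * (m : ℤ)) := by
        linear_combination 6 * hc - (s + 5 * r + 3 * S) * hS - 5 * (s - r + 3 * T) * hT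
      omega
    · obtain ⟨S, hS⟩ : (3 : ℤ) ∣ s - 5 * r := by omega
      obtain ⟨T, hT⟩ : (3 : ℤ) ∣ s + r := by omega
      refine ⟨S, T, ?_⟩
      have : 9 * (S ^ 2 + 5 * T ^ 2) = 9 * (2 * (m : ℤ)) := by
        linear_combination 6 * hc - (s - 5 * r + 3 * S) * hS - 5 * (s + r + 3 * T) * hT
      omega
  · -- `c = 4`
    have he : s % 2 = 0 ∧ r % 2 = 0 := by
      have h : (s ^ 2 + 5 * r ^ 2) % 4 = 0 := by rw [hc]; omega
      rw [Int.add_emod, Int.mul_emod, pow_two, pow_two, Int.mul_emod s, Int.mul_emod r] at h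
      have h1 : s % 4 = 0 ∨ s % 4 = 1 ∨ s % 4 = 2 ∨ s % 4 = 3 := by omega
      have h2 : r % 4 = 0 ∨ r % 4 = 1 ∨ r % 4 = 2 ∨ r % 4 = 3 := by omega
      rcases h1 with e1 | e1 | e1 | e1 <;> rcases h2 with e2 | e2 | e2 | e2 <;> rw [e1, e2] at h <;>
        norm_num at h <;> omega
    obtain ⟨S, hS⟩ : (2 : ℤ) ∣ s := by omega
    obtain ⟨T, hT⟩ : (2 : ℤ) ∣ r := by omega
    refine absurd ?_ (sq5 S T)
    have : 4 * (S ^ 2 + 5 * T ^ 2) = 4 * (m : ℤ) := by rw [hS, hT] at hc; linear_combination hc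
    omega
  · -- `c = 5`
    obtain ⟨S, hS⟩ : (5 : ℤ) ∣ s :=
      Int.Prime.dvd_pow' (p := 5) (n := s) (k := 2) Nat.prime_five
        ⟨(m : ℤ) - r ^ 2, by push_cast; linear_combination hc⟩
    refine absurd ?_ (sq5 r S)
    have : 5 * (r ^ 2 + 5 * S ^ 2) = 5 * (m : ℤ) := by rw [hS] at hc; linear_combination hc
    omega

theorem exists_auxPrime {n : ℕ} [Fact n.Prime] (hn : n ≠ 2) :
    ∃ m : ℕ, m.Prime ∧ m % 20 = 3 ∧ 3 < m ∧ legendreSym n m = -1 := by
  have hp : n.Prime := Fact.out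
  obtain ⟨a, ha20, han, hcop⟩ : ∃ a : ℕ, a % 20 = 3 ∧ legendreSym n a = -1 ∧ a.Coprime (20 * n) := by
    by_cases h5 : n = 5
    · subst h5
      refine ⟨3, rfl, (legendreSym.eq_neg_one_iff 5).2 ?_, by norm_num⟩
      have key : ¬ IsSquare ((((3 : ℕ) : ℤ) : ZMod 5)) := by decide +kernel +revert
      exact key
    · obtain ⟨r, hr⟩ := FiniteField.exists_nonsquare (F := ZMod n) (by rwa [ZMod.ringChar_zmod_n])
      have hcop : Nat.Coprime 20 n := by
        refine Nat.Coprime.symm ((Nat.Prime.coprime_iff_not_dvd hp).2 fun h => ?_)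
        have h' : n ∣ 2 * 2 * 5 := h
        rcases hp.dvd_mul.1 h' with h1 | h1
        · rcases hp.dvd_mul.1 h1 with h2 | h2 <;> exact hn ((Nat.prime_dvd_prime_iff_eq hp Nat.prime_two).1 h2)
        · exact h5 ((Nat.prime_dvd_prime_iff_eq hp Nat.prime_five).1 h1)
      obtain ⟨a, ha1, ha2⟩ := Nat.chineseRemainder hcop 3 r.val
      have e : ((a : ℤ) : ZMod n) = r := by
        push_cast
        rw [(ZMod.natCast_eq_natCast_iff _ _ _).2 ha2, ZMod.natCast_zmod_val]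
      have hr0 : r ≠ 0 := fun h => hr (h ▸ IsSquare.zero)
      refine ⟨a, ha1, (legendreSym.eq_neg_one_iff n).2 (by rw [e]; exact hr), ?_⟩
      refine Nat.Coprime.mul_right ?_ ?_
      · rw [Nat.coprime_iff_gcd_eq_one, Nat.gcd_comm, Nat.gcd_rec, show a % 20 = 3 from ha1]
        norm_num
      · refine Nat.Coprime.symm ((Nat.Prime.coprime_iff_not_dvd hp).2 fun h => hr0 ?_)
        rw [← e]
        push_cast
        exact (ZMod.natCast_eq_zero_iff _ _).2 h
  haveI : NeZero (20 * n) := ⟨mul_ne_zero (by norm_num) hp.ne_zero⟩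
  obtain ⟨m, hm3, hm, hmod⟩ := Nat.forall_exists_prime_gt_and_eq_mod (q := 20 * n)
    ((ZMod.unitOfCoprime a hcop).isUnit) 3
  rw [ZMod.coe_unitOfCoprime, ZMod.natCast_eq_natCast_iff'] at hmod
  refine ⟨m, hm, ?_, hm3, ?_⟩
  · have := congrArg (· % 20) hmod
    simp only [Nat.mod_mod_of_dvd _ (dvd_mul_right 20 n)] at this
    omega
  · have := congrArg (· % n) hmod
    simp only [Nat.mod_mod_of_dvd _ (dvd_mul_left n 20)] at this
    rw [legendreSym.mod] at han ⊢
    rw [show (m : ℤ) % (n : ℤ) = (a : ℤ) % (n : ℤ) by exact_mod_cast this]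
    exact han

end CfsgLib.HallGen.DivRing
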