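import Mathlib.NumberTheory.GaussSum
import Mathlib.NumberTheory.LegendreSymbol.QuadraticReciprocity
import Mathlib.NumberTheory.LegendreSymbol.QuadraticChar.Basic
import Mathlib.Algebra.MonoidAlgebra.Basic
import Mathlib.FieldTheory.KummerExtension
import Mathlib.Analysis.Complex.Polynomial.Basic
import Mathlib.RingTheory.RootsOfUnity.Complex

/-!
# `-1` as a norm from `ℚ(ζ_n, √-m)`

For odd primes `n`, `m` with `m ≡ 3 (mod 4)`, `m > 3` and `(m/n) = -1`, the product of the cyclotomic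
units `1 - e^a ζ^b` (`a` a square mod `m`, `1 ≤ b ≤ (n-1)/2`) has relative norm `-1` up to a root of unity.
-/

set_option autoImplicit false
set_option maxHeartbeats 1000000

namespace CfsgLib.HallGen.DivRing

open Finset Polynomial

section Half

variable (m : ℕ) [Fact m.Prime]

/-- The non-zero squares mod `m`. -/
noncomputable def half : Finset (ZMod m) :=
  Finset.univ.filter fun a => quadraticChar (ZMod m) a = 1

variable {m}

theorem mem_half {a : ZMod m} : a ∈ half m ↔ quadraticChar (ZMod m) a = 1 := by simp [half]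

theorem ne_zero_of_mem_half {a : ZMod m} (ha : a ∈ half m) : a ≠ 0 := fun h => by
  rw [mem_half, h, MulChar.map_zero] at ha
  exact zero_ne_one ha

theorem chi_neg_one (hm : m % 4 = 3) : quadraticChar (ZMod m) (-1) = -1 := by
  have h := legendreSym.at_neg_one (p := m) (by omega)
  rw [ZMod.χ₄_nat_three_mod_four hm] at h
  rw [← h, legendreSym]
  norm_num

theorem chi_neg (hm : m % 4 = 3) (a : ZMod m) :
    quadraticChar (ZMod m) (-a) = -quadraticChar (ZMod m) a := by
  rw [neg_eq_neg_one_mul a, map_mul, chi_neg_one hm, neg_one_mul]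

theorem mul_mem_half {c a : ZMod m} (hc : c ∈ half m) : c * a ∈ half m ↔ a ∈ half m := by
  rw [mem_half, mem_half, map_mul, mem_half.1 hc, one_mul]

theorem prod_half_mul {M : Type*} [CommMonoid M] {c : ZMod m} (hc : c ∈ half m) (f : ZMod m → M) :
    ∏ a ∈ half m, f (c * a) = ∏ a ∈ half m, f a :=
  Finset.prod_equiv (Equiv.mulLeft₀ c (ne_zero_of_mem_half hc)) (fun _ => (mul_mem_half hc).symm)
    (fun _ _ => rfl)

theorem split_univ (hm : m % 4 = 3) {M : Type*} [AddCommMonoid M] (f : ZMod m → M) :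
    ∑ a, f a = f 0 + ((∑ a ∈ half m, f a) + ∑ a ∈ half m, f (-a)) := by
  classical
  have h2 : ringChar (ZMod m) ≠ 2 := by rw [ZMod.ringChar_zmod_n]; omega
  have hdisj : Disjoint (half m) ((half m).map (Equiv.neg (ZMod m)).toEmbedding) := by
    rw [Finset.disjoint_left]
    intro a ha hb
    obtain ⟨b, hb', rfl⟩ := Finset.mem_map.1 hb
    simp only [Equiv.coe_toEmbedding, Equiv.neg_apply, mem_half, chi_neg hm] at ha
    rw [mem_half.1 hb'] at ha
    norm_num at ha
  have hu : (Finset.univ : Finset (ZMod m)).erase 0 =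
      (half m).disjUnion ((half m).map (Equiv.neg (ZMod m)).toEmbedding) hdisj := by
    ext a
    simp only [Finset.mem_erase, Finset.mem_univ, and_true, Finset.mem_disjUnion, Finset.mem_map_equiv,
      Equiv.neg_symm, Equiv.neg_apply, mem_half, chi_neg hm]
    constructor
    · intro ha
      rcases quadraticChar_dichotomy ha with h | h <;> simp [h]
    · rintro (h | h) rfl <;> simp at h
  rw [← Finset.add_sum_erase _ f (Finset.mem_univ 0), hu, Finset.sum_disjUnion, Finset.sum_map]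
  rfl

theorem odd_card_half (hm : m % 4 = 3) : Odd (half m).card := by
  have h := split_univ (m := m) hm (fun _ => 1)
  simp only [Finset.sum_const, Finset.card_univ, ZMod.card, smul_eq_mul, mul_one] at h
  rw [Nat.odd_iff]
  omega

theorem sum_half (hm : m % 4 = 3) (hm3 : 3 < m) : ∑ a ∈ half m, a = 0 := by
  have hm' : m.Prime := Fact.out
  have hnd : ∀ k : ℕ, 0 < k → k < m → (k : ZMod m) ≠ 0 := fun k hk hk' h =>
    Nat.not_dvd_of_pos_of_lt hk hk' ((ZMod.natCast_eq_zero_iff _ _).1 h)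
  have h2 : (2 : ZMod m) ≠ 0 := by exact_mod_cast hnd 2 two_pos (by omega)
  have h3 : (3 : ZMod m) ≠ 0 := by exact_mod_cast hnd 3 three_pos hm3
  have h4 : (4 : ZMod m) ∈ half m := by
    rw [mem_half, quadraticChar_one_iff_isSquare]
    · exact ⟨2, by norm_num⟩
    · rw [show (4 : ZMod m) = 2 * 2 by norm_num]
      exact mul_ne_zero h2 h2
  have h : ∑ a ∈ half m, 4 * a = ∑ a ∈ half m, a :=
    Finset.sum_equiv (Equiv.mulLeft₀ _ (ne_zero_of_mem_half h4)) (fun _ => (mul_mem_half h4).symm)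
      (fun _ _ => rfl)
  rw [← Finset.mul_sum] at h
  have : (3 : ZMod m) * ∑ a ∈ half m, a = 0 := by linear_combination h
  exact (mul_eq_zero.1 this).resolve_left h3

end Half

theorem coeff_prod_invariant {m : ℕ} [Fact m.Prime] {R : Type*} [CommRing R] (k : ℕ) (z : ℕ → R)
    {c : ZMod m} (hc : c ∈ half m) (x : ZMod m) :
    (∏ a ∈ half m, ∏ j ∈ range k, (1 - AddMonoidAlgebra.single a (z j))).coeff (c * x) =
      (∏ a ∈ half m, ∏ j ∈ range k, (1 - AddMonoidAlgebra.single a (z j))).coeff x := by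
  set f := AddMonoidAlgebra.mapDomainRingHom R (AddMonoidHom.mulLeft c : ZMod m →+ ZMod m)
  set P := ∏ a ∈ half m, ∏ j ∈ range k, (1 - AddMonoidAlgebra.single a (z j))
  have hinv : f P = P := by
    simp only [P, map_prod, map_sub, map_one]
    refine Eq.trans (Finset.prod_congr rfl fun a _ => Finset.prod_congr rfl fun j _ => ?_)
      (prod_half_mul hc fun a => ∏ j ∈ range k, (1 - AddMonoidAlgebra.single a (z j)))
    simp [f, AddMonoidAlgebra.mapDomainRingHom_apply]
  conv_lhs => rw [← hinv]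
  simp only [f, AddMonoidAlgebra.mapDomainRingHom_apply, AddMonoidAlgebra.coeff_mapDomain]
  exact Finsupp.mapDomain_apply (mul_right_injective₀ (ne_zero_of_mem_half hc)) _ x

theorem eval_prod {m : ℕ} [Fact m.Prime] {R A : Type*} [CommRing R] [CommRing A] [Algebra R A]
    (k : ℕ) (z : ℕ → R) (φ : AddChar (ZMod m) A) :
    ∏ a ∈ half m, ∏ j ∈ range k, (1 - algebraMap R A (z j) * φ a) =
      ∑ x, algebraMap R A
        ((∏ a ∈ half m, ∏ j ∈ range k, (1 - AddMonoidAlgebra.single a (z j))).coeff x) * φ x := by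
  set E := AddMonoidAlgebra.lift R A (ZMod m) φ.toMonoidHom
  have hsingle : ∀ (a : ZMod m) (b : R), E (AddMonoidAlgebra.single a b) = algebraMap R A b * φ a :=
    fun a b => by
      simp [E, AddMonoidAlgebra.lift_single, Algebra.smul_def]
      try rfl
  set P := ∏ a ∈ half m, ∏ j ∈ range k, (1 - AddMonoidAlgebra.single a (z j))
  have h1 : E P = ∏ a ∈ half m, ∏ j ∈ range k, (1 - algebraMap R A (z j) * φ a) := by
    simp only [P, map_prod, map_sub, map_one, hsingle]
  rw [← h1]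
  simp only [E, AddMonoidAlgebra.lift_apply']
  rw [Finsupp.sum_fintype]
  · exact Finset.sum_congr rfl fun x _ => rfl
  · simp

theorem prod_one_sub {n : ℕ} {ζ : ℂ} (hζ : IsPrimitiveRoot ζ n) (hn : 0 < n) (x : ℂ) :
    ∏ i ∈ range n, (1 - ζ ^ i * x) = 1 - x ^ n := by
  have h := congrArg (Polynomial.eval 1) (X_pow_sub_C_eq_prod (R := ℂ) hζ hn (e := (rfl : x ^ n = x ^ n)))
  simp [Polynomial.eval_prod] at h
  exact h.symm

theorem prod_one_sub_pairs {n : ℕ} {ζ : ℂ} (hζ : IsPrimitiveRoot ζ n) {k : ℕ} (hk : n = 2 * k + 1)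
    (x : ℂ) :
    (1 - x) * ((∏ j ∈ range k, (1 - ζ ^ (j + 1) * x)) * ∏ j ∈ range k, (1 - (ζ ^ (j + 1))⁻¹ * x))
      = 1 - x ^ n := by
  rw [← prod_one_sub hζ (by omega) x, hk, show 2 * k + 1 = (k + k) + 1 by ring, Finset.prod_range_succ',
    Finset.prod_range_add, pow_zero, one_mul, mul_comm (1 - x)]
  congr 1
  congr 1
  rw [← Finset.prod_range_reflect]
  refine Finset.prod_congr rfl fun j hj => ?_
  rw [Finset.mem_range] at hj
  congr 2
  refine inv_eq_of_mul_eq_one_right ?_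
  rw [← pow_add, show k - 1 - j + 1 + (k + j + 1) = n by omega, hζ.pow_eq_one]

/-- The main identity: `-1 = A² + m B²` in `ℚ(ζ_n)`. -/
theorem exists_neg_one_eq {n m : ℕ} [Fact n.Prime] [Fact m.Prime] (hn : n ≠ 2) (hm : m % 4 = 3)
    (hm3 : 3 < m) (hnm : legendreSym n m = -1) {ζ : ℂ} (hζ : IsPrimitiveRoot ζ n) :
    ∃ A B : ℚ[X], aeval ζ A ^ 2 + (m : ℂ) * aeval ζ B ^ 2 = -1 := by
  classical
  obtain ⟨k, hk⟩ : ∃ k, n = 2 * k + 1 := ((Fact.out : n.Prime).odd_of_ne_two hn)
  set e : ℂ := Complex.exp (2 * Real.pi * Complex.I / m) with he_def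
  have he : IsPrimitiveRoot e m := Complex.isPrimitiveRoot_exp m (NeZero.ne m)
  set ψ : AddChar (ZMod m) ℂ := AddChar.zmodChar m he.pow_eq_one with hψ_def
  have hψprim : ψ.IsPrimitive := AddChar.zmodChar_primitive_of_primitive_root m he
  have hψne : ψ ≠ 1 := fun h => he.ne_one (by omega) (by
    have := congrArg (fun φ : AddChar (ZMod m) ℂ => φ 1) h
    simpa [hψ_def, AddChar.zmodChar_apply, ZMod.val_one] using this)
  let K : Subalgebra ℚ ℂ := (aeval ζ : ℚ[X] →ₐ[ℚ] ℂ).range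
  have hζK : ∀ i : ℕ, ζ ^ i ∈ K := fun i => ⟨X ^ i, by simp⟩
  -- the product in the group ring
  set z : ℕ → K := fun j => ⟨ζ ^ (j + 1), hζK _⟩ with hz_def
  set P : AddMonoidAlgebra K (ZMod m) :=
    ∏ a ∈ half m, ∏ j ∈ range k, (1 - AddMonoidAlgebra.single a (z j))
  have hP : ∀ c ∈ half m, ∀ x, P.coeff (c * x) = P.coeff x := fun c hc x =>
    coeff_prod_invariant k z hc x
  have heval : ∀ φ : AddChar (ZMod m) ℂ,
      ∏ a ∈ half m, ∏ j ∈ range k, (1 - ζ ^ (j + 1) * φ a) = ∑ x, (P.coeff x : ℂ) * φ x := fun φ =>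
    eval_prod (R := K) (A := ℂ) k z φ
  -- collect by the quadratic character
  have h1m : (1 : ZMod m) ∈ half m := by rw [mem_half, map_one]
  have hcol : ∀ φ : AddChar (ZMod m) ℂ, ∑ x, (P.coeff x : ℂ) * φ x =
      (P.coeff 0 : ℂ) + ((P.coeff 1 : ℂ) * ∑ a ∈ half m, φ a + (P.coeff (-1) : ℂ) * ∑ a ∈ half m, φ (-a)) := by
    intro φ
    rw [split_univ hm, AddChar.map_zero_eq_one, mul_one, Finset.mul_sum, Finset.mul_sum]
    congr 1
    congr 1 <;> refine Finset.sum_congr rfl fun a ha => ?_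
    · rw [← hP a ha 1, mul_one]
    · rw [← hP a ha (-1), mul_neg_one]
  set η := ∑ a ∈ half m, ψ a with hη
  set η' := ∑ a ∈ half m, ψ (-a) with hη'
  have hsum : η + η' = -1 := by
    have := AddChar.sum_eq_zero_of_ne_one hψne
    rw [split_univ hm, AddChar.map_zero_eq_one] at this
    linear_combination this
  have hdiff : (η - η') ^ 2 = -(m : ℂ) := by
    have h2 : ringChar (ZMod m) ≠ 2 := by rw [ZMod.ringChar_zmod_n]; omega
    set χ := (quadraticChar (ZMod m)).ringHomComp (Int.castRingHom ℂ) with hχ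
    have hχ1 : χ ≠ 1 := (MulChar.ringHomComp_ne_one_iff (RingHom.injective_int _)).2 (quadraticChar_ne_one h2)
    have hg := gaussSum_sq hχ1 ((quadraticChar_isQuadratic _).comp _) hψprim
    have hgs : gaussSum χ ψ = η - η' := by
      rw [gaussSum, split_univ hm, MulChar.map_zero, zero_mul, zero_add, sub_eq_add_neg, hη, hη',
        ← Finset.sum_neg_distrib]
      congr 1 <;> refine Finset.sum_congr rfl fun a ha => ?_ <;>
        simp [hχ, chi_neg hm, mem_half.1 ha]
    rw [hgs, ZMod.card, hχ, MulChar.ringHomComp_apply, chi_neg_one hm] at hg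
    simpa using hg
  set c0 := (P.coeff 0 : ℂ)
  set c1 := (P.coeff 1 : ℂ)
  set c2 := (P.coeff (-1) : ℂ)
  have hX : ∏ a ∈ half m, ∏ j ∈ range k, (1 - ζ ^ (j + 1) * ψ a)
      = (c0 - (c1 + c2) / 2) + (c1 - c2) / 2 * (η - η') := by
    rw [heval, hcol]
    linear_combination (c1 + c2) / 2 * hsum
  have hX' : ∏ a ∈ half m, ∏ j ∈ range k, (1 - ζ ^ (j + 1) * ψ (-a))
      = (c0 - (c1 + c2) / 2) - (c1 - c2) / 2 * (η - η') := by
    have h := (heval (ψ⁻¹)).trans (hcol ψ⁻¹)
    simp only [AddChar.inv_apply, neg_neg] at h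
    rw [h]
    linear_combination (c1 + c2) / 2 * hsum
  -- the norm
  have hψsum : ∏ a ∈ half m, ψ (-a) = 1 := by
    rw [← AddChar.map_zero_eq_one ψ]
    have : ∏ a ∈ half m, ψ (-a) = ψ (∑ a ∈ half m, -a) :=
      Finset.induction_on (half m) (by simp) fun a s ha ih => by
        rw [Finset.prod_insert ha, Finset.sum_insert ha, AddChar.map_add_eq_mul, ih]
    rw [this, Finset.sum_neg_distrib, sum_half hm hm3, neg_zero]
  have hpair : ∀ (a : ZMod m) (j : ℕ), 1 - ζ ^ (j + 1) * ψ (-a)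
      = -(ζ ^ (j + 1)) * ψ (-a) * (1 - (ζ ^ (j + 1))⁻¹ * ψ a) := by
    intro a j
    have hz : ζ ^ (j + 1) ≠ 0 := pow_ne_zero _ (hζ.ne_zero (NeZero.ne n))
    have hψa : ψ (-a) * ψ a = 1 := by rw [← AddChar.map_add_eq_mul, neg_add_cancel, AddChar.map_zero_eq_one]
    field_simp
    linear_combination -hψa
  set σ := ∑ j ∈ range k, (j + 1) with hσ
  have hsig : ∏ j ∈ range k, -(ζ ^ (j + 1)) = (-1) ^ k * ζ ^ σ := by
    rw [← Finset.prod_pow_eq_pow_sum, Finset.prod_neg, Finset.card_range]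
  -- quotient of the full products
  have hm0 : ∀ a ∈ half m, 1 - ψ a ≠ 0 := fun a ha h => by
    have h1 : ψ a = 1 := (sub_eq_zero.1 h).symm
    rw [hψ_def, AddChar.zmodChar_apply, he.pow_eq_one_iff_dvd] at h1
    exact ne_zero_of_mem_half ha ((ZMod.val_eq_zero a).1 (Nat.eq_zero_of_dvd_of_lt h1 (ZMod.val_lt a)))
  have hmn : n ≠ m := by
    rintro rfl
    rw [(legendreSym.eq_zero_iff n n).2 (by simp)] at hnm
    norm_num at hnm
  have hn0 : (n : ZMod m) ≠ 0 := fun h => hmn
    (((Nat.prime_dvd_prime_iff_eq (Fact.out : m.Prime) (Fact.out : n.Prime)).1 ((ZMod.natCast_eq_zero_iff _ _).1 h)).symm)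
  have hrec : legendreSym m n = (-1) ^ (k + 1) := by
    have h := legendreSym.quadratic_reciprocity' (p := m) (q := n) (by omega) hn
    rw [hnm] at h
    have hm2 : Odd (m / 2) := by rw [Nat.odd_iff]; omega
    rw [show n / 2 = k by omega, pow_mul, hm2.neg_one_pow] at h
    rcases Nat.even_or_odd k with hk' | hk'
    · rw [hk'.neg_one_pow] at h
      rw [pow_succ, hk'.neg_one_pow]
      linarith
    · rw [hk'.neg_one_pow] at h
      rw [pow_succ, hk'.neg_one_pow]
      linarith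
  have hquot : (∏ a ∈ half m, (1 - ψ a ^ n)) = (-1) ^ (k + 1) * ∏ a ∈ half m, (1 - ψ a) := by
    have e : ∀ a, ψ a ^ n = ψ ((n : ZMod m) * a) := fun a => by
      rw [← AddChar.map_nsmul_eq_pow, nsmul_eq_mul]
    simp only [e]
    have hs : quadraticChar (ZMod m) (n : ZMod m) = (-1) ^ (k + 1) := by
      rw [← hrec, legendreSym]; simp
    rcases Nat.even_or_odd (k + 1) with hk' | hk'
    · rw [hk'.neg_one_pow] at hs ⊢
      rw [one_mul]
      exact prod_half_mul (mem_half.2 hs) fun a => 1 - ψ a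
    · rw [hk'.neg_one_pow] at hs ⊢
      have hc : -(n : ZMod m) ∈ half m := by rw [mem_half, chi_neg hm, hs]; norm_num
      calc ∏ a ∈ half m, (1 - ψ ((n : ZMod m) * a))
          = ∏ a ∈ half m, (fun y => 1 - ψ (-y)) (-(n : ZMod m) * a) :=
            Finset.prod_congr rfl fun a _ => by simp
        _ = ∏ a ∈ half m, (1 - ψ (-a)) := prod_half_mul hc fun y => 1 - ψ (-y)
        _ = ∏ a ∈ half m, (-(1 : ℂ)) * ψ (-a) * (1 - ψ a) := by
            refine Finset.prod_congr rfl fun a _ => ?_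
            have hψa : ψ (-a) * ψ a = 1 := by
              rw [← AddChar.map_add_eq_mul, neg_add_cancel, AddChar.map_zero_eq_one]
            linear_combination -hψa
        _ = -1 * ∏ a ∈ half m, (1 - ψ a) := by
            rw [Finset.prod_mul_distrib, Finset.prod_mul_distrib, Finset.prod_const, hψsum,
              (odd_card_half hm).neg_one_pow, mul_one]
  have hnorm : (∏ a ∈ half m, ∏ j ∈ range k, (1 - ζ ^ (j + 1) * ψ a)) *
      ∏ a ∈ half m, ∏ j ∈ range k, (1 - ζ ^ (j + 1) * ψ (-a)) = -(ζ ^ (σ * (half m).card)) := by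
    have hpairs : ∏ a ∈ half m, ((1 - ψ a) * ((∏ j ∈ range k, (1 - ζ ^ (j + 1) * ψ a)) *
        ∏ j ∈ range k, (1 - (ζ ^ (j + 1))⁻¹ * ψ a))) = ∏ a ∈ half m, (1 - ψ a ^ n) :=
      Finset.prod_congr rfl fun a _ => prod_one_sub_pairs hζ hk (ψ a)
    rw [Finset.prod_mul_distrib, Finset.prod_mul_distrib, hquot, mul_comm ((-1) ^ (k + 1) : ℂ)] at hpairs
    have hne : (∏ a ∈ half m, (1 - ψ a)) ≠ 0 := Finset.prod_ne_zero_iff.2 hm0
    have hpr := mul_left_cancel₀ hne hpairs
    simp only [hpair]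
    simp only [Finset.prod_mul_distrib, Finset.prod_const, Finset.card_range, Finset.prod_pow, hψsum,
      one_pow, mul_one, hsig]
    rw [mul_left_comm, hpr, ← pow_mul, ← pow_mul]
    have hodd : (-1 : ℂ) ^ (k * (half m).card) = (-1) ^ k := by
      rw [mul_comm, pow_mul, (odd_card_half hm).neg_one_pow]
    rw [hodd]
    have : (-1 : ℂ) ^ k * (-1) ^ k = 1 := by rw [← pow_add, ← two_mul, pow_mul]; norm_num
    linear_combination (-(ζ ^ (σ * (half m).card))) * this
  -- scale by a root of unity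
  obtain ⟨w, hwK, hw⟩ : ∃ w ∈ K, w ^ 2 * ζ ^ (σ * (half m).card) = 1 := by
    refine ⟨ζ ^ (k * (σ * (half m).card)), hζK _, ?_⟩
    rw [← pow_mul, ← pow_add]
    rw [show k * (σ * (half m).card) * 2 + σ * (half m).card = n * (σ * (half m).card) by rw [hk]; ring,
      pow_mul, hζ.pow_eq_one, one_pow]
  have h2K : (2 : ℂ)⁻¹ ∈ K := by
    have h := K.algebraMap_mem (2⁻¹ : ℚ)
    simpa using h
  have hA : w * (c0 - (c1 + c2) / 2) ∈ K := by
    rw [div_eq_mul_inv]
    exact mul_mem hwK (sub_mem (SetLike.coe_mem _) (mul_mem (add_mem (SetLike.coe_mem _) (SetLike.coe_mem _)) h2K))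
  have hB : w * ((c1 - c2) / 2) ∈ K := by
    rw [div_eq_mul_inv]
    exact mul_mem hwK (mul_mem (sub_mem (SetLike.coe_mem _) (SetLike.coe_mem _)) h2K)
  obtain ⟨A, hA⟩ := hA
  obtain ⟨B, hB⟩ := hB
  refine ⟨A, B, ?_⟩
  have hA' : aeval ζ A = w * (c0 - (c1 + c2) / 2) := hA
  have hB' : aeval ζ B = w * ((c1 - c2) / 2) := hB
  rw [hA', hB']
  rw [hX, hX'] at hnorm
  linear_combination (w * ((c1 - c2) / 2)) ^ 2 * hdiff + w ^ 2 * hnorm - hw

end CfsgLib.HallGen.DivRing
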