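import Cfsg.Agent.Lib.HallGen.SLTwoTools
import Cfsg.Agent.Lib.Classical.SLGroup
import Mathlib.Algebra.Field.ZMod

/-!
# Generators and automorphism orbit of `SL(2,5)`
-/

set_option autoImplicit false

namespace CfsgLib.HallGen.DivRing

open scoped MatrixGroups

instance fact_five : Fact (Nat.Prime 5) := ⟨Nat.prime_five⟩

/-- `SL(2,5)`. -/
abbrev BI : Type := SL(2, ZMod 5)

/-- The generator of order four. -/
def gP : BI := SLTwo.W

/-- The generator of order six. -/
def gw : BI := SLTwo.mk 0 (-1) 1 1 (by decide)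

/-- A second element of order four, anticommuting with `gP`. -/
def gJ : BI := SLTwo.mk 2 0 0 3 (by decide)

/-- The image of `gP` under the outer automorphism. -/
def bP : BI := SLTwo.mk 0 3 3 0 (by decide)

/-- The image of `gw` under the outer automorphism. -/
def bw : BI := SLTwo.mk 1 3 3 0 (by decide)

theorem gP_eq : gP = SLTwo.W := rfl

theorem rels : gP * gP = -1 ∧ gw * gw * gw = -1 ∧ gw ≠ -1 ∧ (gP * gw) ^ 5 = -1 ∧ gP * gw ≠ -1 ∧
    gJ * gJ = -1 ∧ gP * gJ = -1 * (gJ * gP) := by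
  decide +kernel

theorem gen_words : (∀ t : ZMod 5, SLTwo.X t = (gP * gP * (gP * gw)) ^ t.val) ∧
    (∀ t : ZMod 5, SLTwo.L t = gP * SLTwo.X (-t) * (gP * gP * gP)) := by
  decide +kernel

theorem aut_table : ∀ w' : BI, w' * w' * w' = -1 → (gP * w') ^ 5 = -1 →
    ∃ s : BI, (s * gP = gP * s ∧ s * gw = w' * s) ∨ (s * bP = gP * s ∧ s * bw = w' * s) := by
  decide +kernel

theorem conj_cube : ∃ s : BI, s * (bP * bw) = (gP * gw) ^ 3 * s := by
  decide +kernel

/-- The outer automorphism. -/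
def beta : BI →* BI :=
  SLTwo.antiConj (2 : ZMod 5) (by decide)

theorem inv_two : (2 : ZMod 5)⁻¹ = 3 := inv_eq_of_mul_eq_one_right (by decide)

theorem beta_vals : beta gP = bP ∧ beta gw = bw ∧ beta bP = gP ∧ beta bw = gw := by
  refine ⟨?_, ?_, ?_, ?_⟩ <;> refine SLTwo.ext2 ?_ ?_ ?_ ?_ <;>
    simp [beta, SLTwo.antiConj, gP, SLTwo.W, gw, bP, bw, div_eq_mul_inv, inv_two] <;> decide

theorem gen_induction {p : BI → Prop} (hP : p gP) (hw : p gw) (hmul : ∀ a b, p a → p b → p (a * b))
    (g : BI) : p g := by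
  have h1 : p 1 := by
    have h4 : gP * gP * (gP * gP) = (1 : BI) := by decide +kernel
    rw [← h4]
    exact hmul _ _ (hmul _ _ hP hP) (hmul _ _ hP hP)
  have hpow : ∀ (a : BI), p a → ∀ n, p (a ^ n) := fun a ha n => by
    induction n with
    | zero => rwa [pow_zero]
    | succ n ih => rw [pow_succ]; exact hmul _ _ ih ha
  let H : Subgroup BI :=
    { carrier := {g | p g}
      one_mem' := h1
      mul_mem' := fun ha hb => hmul _ _ ha hb
      inv_mem' := fun {a} ha => by
        have e : a⁻¹ = a ^ (Nat.card BI - 1) := by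
          refine inv_eq_of_mul_eq_one_right ?_
          rw [← pow_succ', Nat.sub_add_cancel Nat.card_pos, pow_card_eq_one']
        rw [e]
        exact hpow a ha _ }
  have hX : ∀ t, p (SLTwo.X t) := fun t => by
    rw [gen_words.1 t]
    exact hpow _ (hmul _ _ (hmul _ _ hP hP) (hmul _ _ hP hw)) _
  have hL : ∀ t, p (SLTwo.L t) := fun t => by
    rw [gen_words.2 t]
    exact hmul _ _ (hmul _ _ hP (hX _)) (hmul _ _ (hmul _ _ hP hP) hP)
  exact (SLTwo.eq_top_of_unipotent (H := H) hX hL ▸ Subgroup.mem_top g : g ∈ H)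

end CfsgLib.HallGen.DivRing
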