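import Cfsg.Agent.Lib.HallGen.DivisionRing.CyclotomicNorm
import Cfsg.Agent.Lib.HallGen.DivisionRing.AuxPrime
import Cfsg.Agent.Lib.HallGen.DivisionRing.IcosianTable
import Mathlib.RingTheory.Polynomial.Cyclotomic.Roots

/-!
# The binary icosahedral group inside a division ring of characteristic zero

It is its own normaliser among finite groups: an element of finite order centralising it is `±1`,
and no element induces an outer automorphism with finite order.
-/

set_option autoImplicit false
set_option maxHeartbeats 1000000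

namespace CfsgLib.HallGen.DivRing

open Polynomial
open scoped MatrixGroups

attribute [local irreducible] gP gw gJ bP bw beta SLTwo.W

variable {D : Type*} [DivisionRing D] [CharZero D]

theorem add_self_ne_zero' {x : D} (h : x ≠ 0) : x + x ≠ 0 := by
  rw [← two_mul]
  exact mul_ne_zero two_ne_zero h

theorem commute_aeval {z y : D} (h : Commute z y) (A : ℚ[X]) : Commute z (aeval y A) := by
  induction A using Polynomial.induction_on' with
  | add p q hp hq => rw [map_add]; exact hp.add_right hq
  | monomial k c =>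
    rw [aeval_monomial]
    exact (show Commute z (algebraMap ℚ D c) from (Algebra.commutes c z).symm).mul_right (h.pow_right k)

variable (ι : BI →* D)

/-- The image of `gP`. -/
local notation "pa" => ι gP
/-- The image of `gw`. -/
local notation "pb" => ι gw
/-- The image of `gJ`. -/
local notation "pj" => ι gJ

/-- Centralising the icosahedral group. -/
def Central (y : D) : Prop := ∀ g : BI, Commute y (ι g)

theorem central_of_gens {y : D} (ha : Commute y pa) (hb : Commute y pb) : Central ι y :=
  gen_induction (p := fun g => Commute y (ι g)) ha hb fun a b h h' => by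
    rw [map_mul]; exact h.mul_right h'

variable (hι : Function.Injective ι)
include hι

theorem map_neg_one : ι (-1) = -1 := by
  have h : ι (-1) * ι (-1) = 1 := by rw [← map_mul, neg_mul_neg, one_mul, map_one]
  refine (mul_self_eq_one_iff.1 h).resolve_left fun h1 => ?_
  have : (-1 : BI) = 1 := hι (h1.trans (map_one ι).symm)
  exact absurd this (by decide +kernel)

theorem basic_rels : pa * pa = -1 ∧ pj * pj = -1 ∧ pa * pj = -(pj * pa) ∧ pb * pb = pb - 1 ∧
    (pa * pb) ^ 5 = -1 ∧ pa * pb ≠ -1 := by
  obtain ⟨r1, r2, r3, r4, r5, r6, r7⟩ := rels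
  refine ⟨by rw [← map_mul, r1, map_neg_one ι hι], by rw [← map_mul, r6, map_neg_one ι hι],
    by rw [← map_mul, r7, map_mul, map_mul, map_neg_one ι hι, neg_one_mul], ?_,
    by rw [← map_mul, ← map_pow, r4, map_neg_one ι hι], fun h => r5 (hι ?_)⟩
  · have h3 : pb * pb * pb = -1 := by rw [← map_mul, ← map_mul, r2, map_neg_one ι hι]
    have hne : pb + 1 ≠ 0 := fun h => r3 (hι (by rw [map_neg_one ι hι]; exact eq_neg_of_add_eq_zero_left h))
    have h0 : (pb + 1) * (pb * pb - pb + 1) = 0 := by
      calc (pb + 1) * (pb * pb - pb + 1) = pb * pb * pb + 1 := by noncomm_ring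
        _ = 0 := by rw [h3, neg_add_cancel]
    have := (mul_eq_zero.1 h0).resolve_left hne
    calc pb * pb = (pb * pb - pb + 1) + (pb - 1) := by abel
      _ = pb - 1 := by rw [this, zero_add]
  · rw [map_mul, h, map_neg_one ι hι]

omit hι in
/-- The trace element. -/
def trc : D := pa * pb + pb * pa - pa

theorem trc_central : Central ι (trc ι) := by
  obtain ⟨ha, -, -, hb, -, -⟩ := basic_rels ι hι
  refine central_of_gens ι ?_ ?_
  · show trc ι * pa = pa * trc ι
    simp only [trc, add_mul, sub_mul, mul_add, mul_sub, mul_assoc, ha]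
    simp only [← mul_assoc, ha, neg_one_mul, mul_neg_one]
    abel
  · show trc ι * pb = pb * trc ι
    simp only [trc, add_mul, sub_mul, mul_add, mul_sub, mul_assoc, hb]
    simp only [← mul_assoc, hb]
    noncomm_ring

theorem trc_sq : trc ι * trc ι = trc ι + 1 := by
  obtain ⟨ha, -, -, hb, hx5, hx⟩ := basic_rels ι hι
  set x := pa * pb with hxdef
  set y := pb * pa - pa with hydef
  have hxy : x * y = 1 := by
    calc x * y = pa * (pb * pb - pb) * pa := by rw [hxdef, hydef]; noncomm_ring
      _ = 1 := by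
        rw [hb, show pb - 1 - pb = (-1 : D) by abel, mul_neg_one, neg_mul, ha, neg_neg]
  have hyx : y * x = 1 := by
    have hx0 : x ≠ 0 := left_ne_zero_of_mul (hxy ▸ one_ne_zero : x * y ≠ 0)
    rw [eq_inv_of_mul_eq_one_right hxy, inv_mul_cancel₀ hx0]
  have h4 : x * x * x * x - x * x * x + x * x - x + 1 = 0 := by
    have h0 : (x + 1) * (x * x * x * x - x * x * x + x * x - x + 1) = 0 := by
      calc _ = x ^ 5 + 1 := by noncomm_ring
        _ = 0 := by rw [hx5, neg_add_cancel]
    exact (mul_eq_zero.1 h0).resolve_left fun h => hx (eq_neg_of_add_eq_zero_left h)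
  have h5 : x * x - x + 1 - y + y * y = 0 := by
    have e1 : ∀ z, x * (y * z) = z := fun z => by rw [← mul_assoc, hxy, one_mul]
    have e2 : (x * x * x * x - x * x * x + x * x - x + 1) * (y * y) = x * x - x + 1 - y + y * y := by
      simp only [sub_mul, add_mul, mul_assoc, e1, one_mul, hxy, mul_one]
    rw [← e2, h4, zero_mul]
  have ht : trc ι = x + y := by rw [trc, hxdef, hydef, add_sub_assoc]
  calc trc ι * trc ι = x * x + x * y + y * x + y * y := by rw [ht]; noncomm_ring
    _ = (x * x - x + 1 - y + y * y) + (x + y + 1) := by rw [hxy, hyx]; abel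
    _ = trc ι + 1 := by rw [h5, zero_add, ht]

omit hι in
/-- The square root of five. -/
def rt5 : D := trc ι + trc ι - 1

theorem rt5_sq : rt5 ι * rt5 ι = 5 := by
  have h := trc_sq ι hι
  calc rt5 ι * rt5 ι = 4 • (trc ι * trc ι - trc ι) + 1 := by rw [rt5]; noncomm_ring
    _ = 5 := by rw [h]; noncomm_ring; norm_num

theorem rt5_central : Central ι (rt5 ι) := fun g =>
  ((trc_central ι hι g).add_left (trc_central ι hι g)).sub_left (Commute.one_left _)

theorem not_central_gens {y : D} (hy : Central ι y) (h : y * y = -1) : False := by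
  obtain ⟨ha, hj, haj, -, -, -⟩ := basic_rels ι hι
  have h1 : (y - pa) * (y + pa) = 0 := by
    calc (y - pa) * (y + pa) = y * y - pa * pa + (y * pa - pa * y) := by noncomm_ring
      _ = 0 := by rw [h, ha, (hy gP).eq, sub_self, sub_self, add_zero]
  have hc : Commute pa pj := by
    rcases mul_eq_zero.1 h1 with h2 | h2
    · exact (sub_eq_zero.1 h2) ▸ hy gJ
    · have := (eq_neg_of_add_eq_zero_left h2) ▸ hy gJ
      exact Commute.neg_left_iff.1 this
  rw [hc.eq] at haj
  have hne : pj * pa ≠ 0 := by
    refine mul_ne_zero (fun h0 => ?_) (fun h0 => ?_)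
    · rw [h0, mul_zero] at hj; exact one_ne_zero (neg_eq_zero.1 hj.symm)
    · rw [h0, mul_zero] at ha; exact one_ne_zero (neg_eq_zero.1 ha.symm)
  exact add_self_ne_zero' hne (eq_neg_iff_add_eq_zero.1 haj)

/-- No element of odd prime order centralises the icosahedral group. -/
theorem no_odd_prime {y : D} (hy : Central ι y) {n : ℕ} [Fact n.Prime] (hn : n ≠ 2) (hyn : y ^ n = 1) :
    y = 1 := by
  by_contra hy1
  obtain ⟨m, hmp, hm20, hm3, hleg⟩ := exists_auxPrime hn
  haveI : Fact m.Prime := ⟨hmp⟩
  obtain ⟨s, r, hsr⟩ := exists_two_mul_eq hm20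
  set ζ : ℂ := Complex.exp (2 * Real.pi * Complex.I / n)
  have hζ : IsPrimitiveRoot ζ n := Complex.isPrimitiveRoot_exp n (NeZero.ne n)
  obtain ⟨A, B, hAB⟩ := exists_neg_one_eq hn (by omega) hm3 hleg hζ
  have hdvd : cyclotomic n ℚ ∣ A ^ 2 + C (m : ℚ) * B ^ 2 + 1 := by
    rw [cyclotomic_eq_minpoly_rat hζ (NeZero.pos n)]
    refine minpoly.dvd ℚ ζ ?_
    simp only [map_add, map_mul, map_pow, aeval_C, map_one, map_natCast]
    rw [hAB, neg_add_cancel]
  have hcyc : aeval y (cyclotomic n ℚ) = 0 := by
    have h := geom_sum_mul y n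
    rw [hyn, sub_self] at h
    rw [cyclotomic_prime ℚ n, map_sum]
    simp only [map_pow, aeval_X]
    exact (mul_eq_zero.1 h).resolve_right (sub_ne_zero.2 hy1)
  obtain ⟨Q, hQ⟩ := hdvd
  have hgeq : aeval y A ^ 2 + (m : D) * aeval y B ^ 2 = -1 := by
    have h := congrArg (aeval y) hQ
    rw [map_mul, hcyc, zero_mul] at h
    simp only [map_add, map_mul, map_pow, aeval_C, map_one, map_natCast] at h
    exact eq_neg_of_add_eq_zero_left h
  set gA := aeval y A
  set gB := aeval y B
  obtain ⟨ha, hj, haj, -, -, -⟩ := basic_rels ι hι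
  have hr5 := rt5_sq ι hι
  have hrc := rt5_central ι hι
  set q := rt5 ι
  set α : D := (s : D) + (r : D) * q with hαd
  set β : D := (s : D) - (r : D) * q with hβd
  have hcα : ∀ g, Commute α (ι g) := fun g =>
    (Int.cast_commute s _).add_left ((Int.cast_commute r _).mul_left (hrc g))
  have hcβ : ∀ g, Commute β (ι g) := fun g =>
    (Int.cast_commute s _).sub_left ((Int.cast_commute r _).mul_left (hrc g))
  have hαβ : Commute α β :=
    Commute.sub_right (Int.cast_commute s _).symm
      ((Int.cast_commute r α).symm.mul_right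
        ((Int.cast_commute s q).add_left ((Int.cast_commute r q).mul_left (Commute.refl q))))
  obtain ⟨u, hu_def⟩ : ∃ u, u = α * pa + β * pj := ⟨_, rfl⟩
  obtain ⟨v, hv_def⟩ : ∃ v, v = pa * pj := ⟨_, rfl⟩
  have hsum : α * α + β * β = ((4 * m : ℕ) : D) := by
    have e1 : Commute (r : D) q := Int.cast_commute r q
    have e2 : Commute (s : D) ((r : D) * q) := Int.cast_commute s _
    have hqq : (r : D) * q * ((r : D) * q) = ((5 * r ^ 2 : ℤ) : D) := by
      rw [Commute.mul_mul_mul_comm (e1.symm), hr5]
      push_cast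
      rw [pow_two]
      exact ((Nat.cast_commute 5 ((r : D) * r)).eq).symm
    calc α * α + β * β = 2 * ((s : D) * s + (r : D) * q * ((r : D) * q)) := by rw [hαd, hβd]; noncomm_ring
      _ = ((2 * (s ^ 2 + 5 * r ^ 2) : ℤ) : D) := by rw [hqq]; push_cast; rw [pow_two (s : D)]
      _ = ((4 * m : ℕ) : D) := by
        rw [hsr]
        push_cast
        rw [← mul_assoc]
        norm_num
  have hu2 : u * u = -((4 * m : ℕ) : D) := by
    have e1 : pj * (α * pa) = α * (pj * pa) := by rw [← mul_assoc, ← (hcα gJ).eq, mul_assoc]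
    have e2 : pa * (α * pa) = α * (pa * pa) := by rw [← mul_assoc, ← (hcα gP).eq, mul_assoc]
    have e3 : pa * (β * pj) = β * (pa * pj) := by rw [← mul_assoc, ← (hcβ gP).eq, mul_assoc]
    have e4 : pj * (β * pj) = β * (pj * pj) := by rw [← mul_assoc, ← (hcβ gJ).eq, mul_assoc]
    rw [hu_def]
    simp only [add_mul, mul_add, mul_assoc, e1, e2, e3, e4, ha, hj, haj, mul_neg, mul_one]
    rw [← mul_assoc β α, ← hαβ.eq, mul_assoc, ← hsum]
    abel
  have hu0 : u ≠ 0 := fun h => by
    rw [h, mul_zero, eq_comm, neg_eq_zero, Nat.cast_eq_zero] at hu2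
    omega
  have hv2 : v * v = -1 := by
    rw [hv_def, mul_assoc, ← mul_assoc pj pa pj, show pj * pa = -(pa * pj) by rw [haj, neg_neg], neg_mul,
      mul_assoc, hj, mul_neg_one, neg_neg, ha]
  have hv0 : v ≠ 0 := fun h => by rw [h, mul_zero] at hv2; exact one_ne_zero (neg_eq_zero.1 hv2.symm)
  have hva : v * pa = -(pa * v) := by
    rw [hv_def, mul_assoc, show pj * pa = -(pa * pj) by rw [haj, neg_neg], mul_neg]
  have hvj : v * pj = -(pj * v) := by
    rw [hv_def]
    conv_lhs => rw [haj]
    rw [neg_mul, mul_assoc]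
  have hcαv : Commute α v := hv_def ▸ (hcα gP).mul_right (hcα gJ)
  have hcβv : Commute β v := hv_def ▸ (hcβ gP).mul_right (hcβ gJ)
  have hvu : v * u = -(u * v) := by
    calc v * u = v * α * pa + v * β * pj := by rw [hu_def, mul_add, ← mul_assoc, ← mul_assoc]
      _ = α * (v * pa) + β * (v * pj) := by rw [← hcαv.eq, ← hcβv.eq, mul_assoc α, mul_assoc β]
      _ = -(u * v) := by rw [hva, hvj, hu_def]; noncomm_ring
  -- commutation with `gA`, `gB`
  have hgc : ∀ (R : ℚ[X]) (g : BI), Commute (ι g) (aeval y R) := fun R g => commute_aeval (hy g).symm R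
  have hyq : Commute q y := by
    have h1 : Commute (trc ι) y := by
      refine Commute.sub_left (Commute.add_left ?_ ?_) (hy gP).symm
      · exact (hy gP).symm.mul_left (hy gw).symm
      · exact (hy gw).symm.mul_left (hy gP).symm
    exact (h1.add_left h1).sub_left (Commute.one_left _)
  have hαy : Commute α y := (Int.cast_commute s y).add_left ((Int.cast_commute r y).mul_left hyq)
  have hβy : Commute β y := (Int.cast_commute s y).sub_left ((Int.cast_commute r y).mul_left hyq)
  have hvc : ∀ R : ℚ[X], Commute v (aeval y R) := fun R => hv_def ▸ (hgc R gP).mul_left (hgc R gJ)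
  have huc : ∀ R : ℚ[X], Commute u (aeval y R) := fun R => hu_def ▸
    ((commute_aeval hαy R).mul_left (hgc R gP)).add_left ((commute_aeval hβy R).mul_left (hgc R gJ))
  have hAB' : Commute gA gB := by
    show aeval y A * aeval y B = aeval y B * aeval y A
    rw [← map_mul, ← map_mul, mul_comm]
  set z := gA + gA + gB * u with hz
  set z' := gA + gA - gB * u with hz'
  have hAu : gA * (gB * u) = (gB * u) * gA := (hAB'.mul_right (huc A).symm).eq
  have hzz : z * z' = -4 := by
    have hBu : gB * u * (gB * u) = gB * gB * (u * u) := by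
      calc gB * u * (gB * u) = gB * (u * gB) * u := by simp only [mul_assoc]
        _ = gB * (gB * u) * u := by rw [(huc B).eq]
        _ = gB * gB * (u * u) := by simp only [mul_assoc]
    calc z * z' = 4 • (gA * gA) - gB * u * (gB * u) + 2 • (gB * u * gA - gA * (gB * u)) := by
          rw [hz, hz']; noncomm_ring
      _ = 4 * (gA ^ 2 + (m : D) * gB ^ 2) := by
          rw [hAu, sub_self, smul_zero, add_zero, hBu, hu2, mul_neg, sub_neg_eq_add,
            (Nat.cast_commute (4 * m) _).symm.eq, pow_two, pow_two]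
          push_cast
          noncomm_ring
      _ = -4 := by rw [hgeq, mul_neg_one]
  have hvz : v * z' = z * v := by
    rw [hz, hz', mul_sub, mul_add, add_mul, add_mul, (hvc A).eq, ← mul_assoc, (hvc B).eq, mul_assoc, hvu,
      mul_neg, sub_neg_eq_add, mul_assoc]
  have hprod : (z + (v + v)) * (z' - (v + v)) = 0 := by
    calc _ = z * z' - 4 • (v * v) + 2 • (v * z' - z * v) := by noncomm_ring
      _ = 0 := by rw [hvz, sub_self, smul_zero, add_zero, hzz, hv2]; noncomm_ring; norm_num
  have huz : Commute u (gA + gA) := (huc A).add_right (huc A)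
  have huB : Commute u (gB * u) := (huc B).mul_right (Commute.refl u)
  have hc : Commute u (v + v) := by
    rcases mul_eq_zero.1 hprod with h | h
    · have e : v + v = -z := eq_neg_of_add_eq_zero_right h
      rw [e, hz]
      exact (huz.add_right huB).neg_right
    · rw [← sub_eq_zero.1 h]
      exact huz.sub_right huB
  have h1 := hc.eq
  rw [mul_add, add_mul, hvu] at h1
  exact add_self_ne_zero' (add_self_ne_zero' (mul_ne_zero hu0 hv0))
    (eq_neg_iff_add_eq_zero.1 (h1.trans (by abel)))

/-- An element of finite order centralising the icosahedral group is `±1`. -/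
theorem eq_pm_one {N : ℕ} : ∀ {y : D}, Central ι y → 0 < N → y ^ N = 1 → y = 1 ∨ y = -1 := by
  induction N using Nat.strong_induction_on with
  | _ N ih =>
    intro y hy hN hyN
    by_cases h1 : N = 1
    · subst h1
      exact Or.inl (by rwa [pow_one] at hyN)
    obtain ⟨p, hp, hpd⟩ := Nat.exists_prime_and_dvd h1
    obtain ⟨k, rfl⟩ := hpd
    have hk : 0 < k := Nat.pos_of_mul_pos_left hN
    have hklt : k < p * k := lt_mul_left hk hp.one_lt
    by_cases hp2 : p = 2
    · subst hp2
      rcases ih k hklt (y := y * y) (fun g => (hy g).mul_left (hy g)) hk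
        (by rw [← pow_two, ← pow_mul]; exact hyN) with h | h
      · exact mul_self_eq_one_iff.1 h
      · exact (not_central_gens ι hι hy h).elim
    · haveI : Fact p.Prime := ⟨hp⟩
      exact ih k hklt hy hk (no_odd_prime ι hι (fun g => (hy g).pow_left k) hp2
        (by rw [← pow_mul, mul_comm]; exact hyN))

/-- An element of finite order normalising the icosahedral group lies in it, up to sign. -/
theorem mem_range_of_normalizing {h : D} (h0 : h ≠ 0) {N : ℕ} (hN : 0 < N)
    (hord : ∀ g : BI, (ι g * h) ^ N = 1)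
    (hnorm : ∀ g : BI, ∃ g' : BI, h * ι g = ι g' * h) : ∃ g : BI, h = ι g := by
  choose θ hθ using hnorm
  have hθmul : ∀ a b, θ (a * b) = θ a * θ b := fun a b => hι (mul_right_cancel₀ h0 (by
    rw [← hθ, map_mul, map_mul, ← mul_assoc, hθ, mul_assoc, hθ, mul_assoc]))
  have hθneg : θ (-1) = -1 := hι (mul_right_cancel₀ h0 (by
    rw [← hθ, map_neg_one ι hι, mul_neg_one, neg_one_mul]))
  have h2 : (2 : ZMod 5) ≠ 0 := by decide +kernel
  obtain ⟨u, hu⟩ := SLTwo.exists_conj_W h2 (g := θ gP) (by rw [← hθmul, rels.1, hθneg])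
  set w' := u⁻¹ * θ gw * u with hw'
  have hθPu : θ gP = u * gP * u⁻¹ := by rw [← hu, gP_eq]
  have hw3 : w' * w' * w' = -1 := by
    rw [hw', show u⁻¹ * θ gw * u * (u⁻¹ * θ gw * u) * (u⁻¹ * θ gw * u) = u⁻¹ * (θ gw * θ gw * θ gw) * u by group,
      ← hθmul, ← hθmul, rels.2.1, hθneg, SLTwo.neg_comm, mul_assoc, inv_mul_cancel, mul_one]
  have hθpow : ∀ n, θ ((gP * gw) ^ (n + 1)) = (θ gP * θ gw) ^ (n + 1) := by
    intro n
    induction n with
    | zero => rw [zero_add, pow_one, pow_one, hθmul]
    | succ n ih => rw [pow_succ, hθmul, ih, hθmul, ← pow_succ]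
  have hPw : (gP * w') ^ 5 = -1 := by
    have e : gP * w' = u⁻¹ * (θ gP * θ gw) * u⁻¹⁻¹ := by rw [hw', hθPu]; group
    rw [e, conj_pow, ← hθpow 4, rels.2.2.2.1, hθneg, SLTwo.neg_comm, mul_assoc, inv_inv,
      inv_mul_cancel, mul_one]
  obtain ⟨s, hs⟩ := aut_table w' hw3 hPw
  obtain ⟨h', hh'⟩ : ∃ h', h' = ι (s⁻¹ * u⁻¹) * h := ⟨_, rfl⟩
  have hact : ∀ g, h' * ι g = ι (s⁻¹ * u⁻¹ * θ g * (u * s)) * h' := by
    intro g
    rw [hh', mul_assoc, hθ, ← mul_assoc, ← map_mul, ← mul_assoc, ← map_mul]
    exact congrArg (fun x => ι x * h) (by group)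
  suffices hfin : h' = 1 ∨ h' = -1 by
    rcases hfin with e | e
    · refine ⟨u * s, ?_⟩
      calc h = ι (u * s) * h' := by
            rw [hh', ← mul_assoc, ← map_mul, show u * s * (s⁻¹ * u⁻¹) = 1 by group, map_one, one_mul]
        _ = _ := by rw [e, mul_one]
    · refine ⟨u * s * (-1), ?_⟩
      calc h = ι (u * s) * h' := by
            rw [hh', ← mul_assoc, ← map_mul, show u * s * (s⁻¹ * u⁻¹) = 1 by group, map_one, one_mul]
        _ = _ := by rw [e, map_mul (ι) (u * s), map_neg_one ι hι]
  have hN' : h' ^ N = 1 := hh' ▸ hord _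
  rcases hs with ⟨hs1, hs2⟩ | ⟨hs1, hs2⟩
  · refine eq_pm_one ι hι (central_of_gens ι ?_ ?_) hN hN'
    · show h' * ι gP = ι gP * h'
      rw [hact, hθPu]
      refine congrArg (fun x => ι x * h') ?_
      calc s⁻¹ * u⁻¹ * (u * gP * u⁻¹) * (u * s) = s⁻¹ * (gP * s) := by group
        _ = gP := by rw [← hs1, inv_mul_cancel_left]
    · show h' * ι gw = ι gw * h'
      rw [hact]
      refine congrArg (fun x => ι x * h') ?_
      calc s⁻¹ * u⁻¹ * θ gw * (u * s) = s⁻¹ * (w' * s) := by rw [hw']; group
        _ = gw := by rw [← hs2, inv_mul_cancel_left]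
  · exfalso
    have hbeta : ∀ g, h' * ι g = ι (beta g) * h' := fun g =>
      gen_induction (p := fun g => h' * ι g = ι (beta g) * h')
        (by
          rw [beta_vals.1, hact, hθPu]
          refine congrArg (fun x => ι x * h') ?_
          calc s⁻¹ * u⁻¹ * (u * gP * u⁻¹) * (u * s) = s⁻¹ * (gP * s) := by group
            _ = bP := by rw [← hs1, inv_mul_cancel_left])
        (by
          rw [beta_vals.2.1, hact]
          refine congrArg (fun x => ι x * h') ?_
          calc s⁻¹ * u⁻¹ * θ gw * (u * s) = s⁻¹ * (w' * s) := by rw [hw']; group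
            _ = bw := by rw [← hs2, inv_mul_cancel_left])
        (fun a b ha hb => by
          rw [map_mul ι, ← mul_assoc, ha, mul_assoc, hb, ← mul_assoc, ← map_mul, ← map_mul beta])
        g
    have hsq : Central ι (h' * h') := by
      refine central_of_gens ι ?_ ?_
      · show h' * h' * ι gP = ι gP * (h' * h')
        rw [mul_assoc, hbeta, ← mul_assoc, hbeta, beta_vals.1, beta_vals.2.2.1, mul_assoc]
      · show h' * h' * ι gw = ι gw * (h' * h')
        rw [mul_assoc, hbeta, ← mul_assoc, hbeta, beta_vals.2.1, beta_vals.2.2.2, mul_assoc]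
    have h'0 : h' ≠ 0 := fun e => by
      rw [e, zero_pow hN.ne'] at hN'
      exact zero_ne_one hN'
    -- `h'` moves the trace element
    have htr : h' * trc ι = (1 - trc ι) * h' := by
      obtain ⟨ha, -, -, hb, -, -⟩ := basic_rels ι hι
      set x := pa * pb with hxdef
      set y := pb * pa - pa with hydef
      have hxy : x * y = 1 := by
        calc x * y = pa * (pb * pb - pb) * pa := by rw [hxdef, hydef]; noncomm_ring
          _ = 1 := by
            rw [hb, show pb - 1 - pb = (-1 : D) by abel, mul_neg_one, neg_mul, ha, neg_neg]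
      have hx0 : x ≠ 0 := left_ne_zero_of_mul (hxy ▸ one_ne_zero : x * y ≠ 0)
      have hyinv : y = x⁻¹ := eq_inv_of_mul_eq_one_right hxy
      obtain ⟨s3, hs3⟩ := conj_cube
      have hx3 : h' * x = ι s3⁻¹ * x ^ 3 * ι s3 * h' := by
        rw [hxdef, ← map_mul, hbeta, map_mul beta, beta_vals.1, beta_vals.2.1, ← map_pow, ← map_mul,
          ← map_mul, mul_assoc s3⁻¹, ← hs3, inv_mul_cancel_left]
      have hs3' : ι s3 * ι s3⁻¹ = 1 := by rw [← map_mul, mul_inv_cancel, map_one]
      have hs3'' : ι s3⁻¹ * ι s3 = 1 := by rw [← map_mul, inv_mul_cancel, map_one]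
      have hy3 : h' * y = ι s3⁻¹ * y ^ 3 * ι s3 * h' := by
        have e : (ι s3⁻¹ * x ^ 3 * ι s3) * (ι s3⁻¹ * y ^ 3 * ι s3) = 1 := by
          have hxy3 : x ^ 3 * y ^ 3 = 1 := by
            rw [hyinv, inv_pow, mul_inv_cancel₀ (pow_ne_zero _ hx0)]
          simp only [mul_assoc]
          rw [← mul_assoc (ι s3) (ι s3⁻¹), hs3', one_mul, ← mul_assoc (x ^ 3), hxy3, one_mul, hs3'']
        have hne : ι s3⁻¹ * x ^ 3 * ι s3 ≠ 0 := left_ne_zero_of_mul (e ▸ one_ne_zero)
        refine mul_left_cancel₀ hne ?_
        rw [← mul_assoc (ι s3⁻¹ * x ^ 3 * ι s3) (ι s3⁻¹ * y ^ 3 * ι s3) h', e, one_mul, ← mul_assoc,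
          ← hx3, mul_assoc, hxy, mul_one]
      have ht : trc ι = x + y := by rw [trc, hxdef, hydef, add_sub_assoc]
      have hcube : x ^ 3 + y ^ 3 = 1 - trc ι := by
        have hyx : y * x = 1 := by rw [hyinv, inv_mul_cancel₀ hx0]
        have hxy' : ∀ z, x * (y * z) = z := fun z => by rw [← mul_assoc, hxy, one_mul]
        have hyx' : ∀ z, y * (x * z) = z := fun z => by rw [← mul_assoc, hyx, one_mul]
        have h3 : trc ι * trc ι * trc ι = x ^ 3 + y ^ 3 + 3 • trc ι := by
          rw [ht]
          simp only [pow_succ, pow_zero, one_mul, add_mul, mul_add, mul_assoc, hxy, hyx, hxy', hyx', mul_one]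
          abel
        have h3' : trc ι * trc ι * trc ι = trc ι + 1 + trc ι := by
          rw [trc_sq ι hι, add_mul, one_mul, trc_sq ι hι]
        rw [eq_sub_iff_add_eq]
        calc x ^ 3 + y ^ 3 + trc ι = (x ^ 3 + y ^ 3 + 3 • trc ι) - 2 • trc ι := by abel
          _ = 1 := by rw [← h3, h3']; abel
      calc h' * trc ι = h' * x + h' * y := by rw [ht, mul_add]
        _ = ι s3⁻¹ * (x ^ 3 + y ^ 3) * ι s3 * h' := by rw [hx3, hy3, mul_add, add_mul, add_mul]
        _ = (1 - trc ι) * h' := by
            rw [hcube, ← ((Commute.one_left _).sub_left (trc_central ι hι s3⁻¹)).eq, mul_assoc (1 - trc ι),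
              hs3'', mul_one]
    have hq : h' * rt5 ι = -(rt5 ι * h') := by
      rw [rt5, mul_sub, mul_add, htr, mul_one]
      noncomm_ring
    have h5 := rt5_sq ι hι
    have h5ne : rt5 ι ≠ 0 := fun e => by
      rw [e, mul_zero] at h5
      norm_num at h5
    have hne : rt5 ι * h' ≠ 0 := mul_ne_zero h5ne h'0
    rcases eq_pm_one ι hι hsq hN (by rw [← pow_two, ← pow_mul, mul_comm, pow_mul, hN', one_pow]) with e | e
    · rcases mul_self_eq_one_iff.1 e with e' | e' <;> rw [e'] at hq hne
      · rw [one_mul, mul_one] at hq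
        rw [mul_one] at hne
        exact add_self_ne_zero' hne (eq_neg_iff_add_eq_zero.1 hq)
      · rw [neg_one_mul, mul_neg_one, neg_neg] at hq
        rw [mul_neg_one] at hne
        exact add_self_ne_zero' (neg_ne_zero.1 hne) (eq_neg_iff_add_eq_zero.1 hq.symm)
    · set q := rt5 ι
      set Y := q * (2 - h') with hY
      have hqh : h' * q = -(q * h') := hq
      have hY2 : Y * Y = 25 := by
        calc Y * Y = 4 • (q * q) - 2 • (q * q * h') - 2 • (q * (h' * q)) + q * (h' * q) * h' := by
              rw [hY]; noncomm_ring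
          _ = 4 • (q * q) - q * q * (h' * h') := by rw [hqh]; noncomm_ring
          _ = 25 := by rw [h5, e]; noncomm_ring; norm_num
      have hY5 : Y = 5 ∨ Y = -5 := by
        have : (Y - 5) * (Y + 5) = 0 := by
          calc (Y - 5) * (Y + 5) = Y * Y - 5 * 5 + (Y * 5 - 5 * Y) := by noncomm_ring
            _ = 0 := by
              rw [hY2, show (5 : D) * 5 = 25 by norm_num, sub_self, zero_add, sub_eq_zero]
              exact ((Nat.cast_commute 5 Y).eq).symm
        rcases mul_eq_zero.1 this with h | h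
        · exact Or.inl (sub_eq_zero.1 h)
        · exact Or.inr (eq_neg_of_add_eq_zero_left h)
      have hcomm : Commute q Y := by
        rcases hY5 with h | h <;> rw [h]
        · exact (Nat.cast_commute 5 q).symm
        · exact ((Nat.cast_commute 5 q).symm).neg_right
      have h1 : q * (q * (2 - h')) = q * (2 - h') * q := hcomm.eq
      have h2' : 5 * (h' + h') = 0 := by
        calc 5 * (h' + h') = q * q * (h' + h') := by rw [h5]
          _ = -(q * (q * (2 - h'))) + (q * (2 - h') * q) := by
              rw [mul_assoc q (2 - h') q, sub_mul, hqh]; noncomm_ring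
          _ = 0 := by rw [h1, neg_add_cancel]
      rcases mul_eq_zero.1 h2' with h | h
      · exact (by norm_num : (5 : D) ≠ 0) h
      · exact add_self_ne_zero' h'0 h

end CfsgLib.HallGen.DivRing
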